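import Groth.Agent.H02CA.KoszSpread.Basic
import Groth.Agent.H27KZero.Koszul
import Groth.Agent.H4DR.FlatBC.Dualizing
import Mathlib.RingTheory.TensorProduct.Quotient

/-!
# Spreading out Koszul data from a prime
-/

set_option autoImplicit false
set_option linter.style.haveILetI false

universe u

open CategoryTheory TensorProduct RingTheory.Sequence

attribute [local instance] HasDerivedCategory.standard

namespace Groth.Agent.H02CA.KoszSpread

/-- Koszul data at a prime spread out to a principal open. -/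
theorem exists_spread (R S : Type u) [CommRing R] [CommRing S] [IsNoetherianRing R] [IsNoetherianRing S]
    [Algebra R S] [Algebra.FiniteType R S] (q : Ideal S) [q.IsPrime]
    (K : Dual.D S) (hK : DRing.IsPerfect S K)
    (fs : List (Localization.AtPrime q)) (hfs : ∀ f ∈ fs, f ∈ IsLocalRing.maximalIdeal (Localization.AtPrime q))
    (hreg : IsRegular (Localization.AtPrime q) fs)
    (hflat : Module.Flat R ((Localization.AtPrime q) ⧸ Ideal.span {a : (Localization.AtPrime q) | a ∈ fs}))
    [DRing.HasLBaseChange (algebraMap S (Localization.AtPrime q))]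
    (hKf : Nonempty ((DRing.LBaseChange (algebraMap S (Localization.AtPrime q))).obj K ≅
      DerivedCategory.Q.obj (Koszul.koszul (Localization.AtPrime q) fs))) :
    ∃ g : S, g ∉ q ∧ ∀ (φ : (Localization.Away g) →ₐ[S] (Localization.AtPrime q)), ∃ fs' : List (Localization.Away g),
      fs'.map φ = fs ∧ IsRegular (Localization.Away g) fs' ∧
      Module.Flat R ((Localization.Away g) ⧸ Ideal.span {a : (Localization.Away g) | a ∈ fs'}) ∧
      ∀ [DRing.HasLBaseChange (algebraMap S (Localization.Away g))],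
        Nonempty ((DRing.LBaseChange (algebraMap S (Localization.Away g))).obj K ≅
          DerivedCategory.Q.obj (Koszul.koszul (Localization.Away g) fs')) := by
  classical
  let A := Localization.AtPrime q
  haveI : Module.Flat S A := IsLocalization.flat A q.primeCompl
  obtain ⟨n, f, rfl⟩ : ∃ (n : ℕ) (f : Fin n → A), fs = List.ofFn f :=
    ⟨fs.length, fs.get, (List.ofFn_get fs).symm⟩
  choose bs hbs using fun i => IsLocalization.surj q.primeCompl (f i)
  let b : Fin n → S := fun i => (bs i).1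
  let J : Ideal S := Ideal.span (Set.range b)
  let s₀ : S := ∏ i, ((bs i).2 : S)
  have hs₀ : s₀ ∉ q := fun h => by
    obtain ⟨i, -, hi⟩ := (Ideal.IsPrime.prod_mem_iff).mp h
    exact (bs i).2.2 hi
  have hJA : J.map (algebraMap S A) = Ideal.ofList (List.ofFn f) := by
    rw [Ideal.map_span, ← Set.range_comp]
    refine le_antisymm (Ideal.span_le.2 ?_) (Ideal.span_le.2 ?_)
    · rintro _ ⟨i, rfl⟩
      show algebraMap S A (bs i).1 ∈ _
      rw [← hbs i]
      exact Ideal.mul_mem_right _ _ (Ideal.subset_span (List.mem_ofFn.2 ⟨i, rfl⟩))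
    · intro a ha
      obtain ⟨i, rfl⟩ := List.mem_ofFn.1 ha
      obtain ⟨v, hv⟩ := (IsLocalization.map_units A (bs i).2).exists_right_inv
      have : f i = algebraMap S A (b i) * v := by
        rw [show algebraMap S A (b i) = f i * algebraMap S A ((bs i).2 : S) from (hbs i).symm, mul_assoc, hv, mul_one]
      show f i ∈ _
      rw [this]
      exact Ideal.mul_mem_right _ _ (Ideal.subset_span ⟨i, rfl⟩)
  -- regularity
  obtain ⟨t₁, ht₁, ht₁'⟩ := exists_away_isWeaklyRegular' q b A
    (isWeaklyRegular_ofFn_of_units f _ (fun i => (IsLocalization.map_units A (bs i).2).unit)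
      (fun i => (hbs i).symm) hreg.toIsWeaklyRegular)
  -- flatness
  haveI : Algebra.FinitePresentation R S := Algebra.FinitePresentation.of_finiteType.mp inferInstance
  haveI : Module.FinitePresentation S (S ⧸ J) := Module.finitePresentation_of_finite S _
  let qA : (A ⊗[S] (S ⧸ J)) ≃ₗ[A] A ⧸ J.map (algebraMap S A) :=
    (Algebra.TensorProduct.quotIdealMapEquivTensorQuot A J).symm.toLinearEquiv
  haveI : IsLocalizedModule q.primeCompl (TensorProduct.mk S A (S ⧸ J) 1) :=
    (isLocalizedModule_iff_isBaseChange q.primeCompl A _).2 (TensorProduct.isBaseChange S (S ⧸ J) A)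
  haveI : Module.Flat R (A ⧸ J.map (algebraMap S A)) := by
    rw [hJA]; exact hflat
  haveI : Module.Flat R (A ⊗[S] (S ⧸ J)) := Module.Flat.of_linearEquiv (qA.restrictScalars R)
  obtain ⟨t₂, ht₂, ht₂'⟩ := exists_flat_away q R (S ⧸ J) (Module.Flat.of_linearEquiv
    ((IsLocalizedModule.iso q.primeCompl (TensorProduct.mk S A (S ⧸ J) 1)).restrictScalars R))
  -- cohomology of `K`
  obtain ⟨E, a, c, hE, hT, ⟨eE⟩⟩ := id hK
  haveI : ∀ i, Module.Finite S (Dual.HD S K i) := fun i =>
    haveI := H27KZero.Local.finite_homology E hT i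
    Module.Finite.equiv (H4DR.PCoh.hEquiv i eE)
  have hout : ∀ i, (i < a ∨ c < i) → Subsingleton (Dual.HD S K i) := fun i hi =>
    haveI := (H4DR.TorAmp.subsingleton_HD_toD_iff E i).2 (HomologicalComplex.ExactAt.of_isZero (hE i hi))
    (H4DR.PCoh.hEquiv i eE.symm).injective.subsingleton
  obtain ⟨eKA⟩ := hKf
  obtain ⟨eq⟩ := H27KZero.Local.koszul_iso (List.ofFn f) hreg
  let eA : (H4DR.FlatBC.FD S A).obj K ≅ Dual.inD A (A ⧸ Ideal.ofList (List.ofFn f)) :=
    (H4DR.FlatBC.lbaseIso K).symm ≪≫ eKA ≪≫ eq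
  have hz : ∀ i, i ≠ 0 → ∃ t ∉ q, ∀ m : Dual.HD S K i, t • m = 0 := fun i hi => by
    haveI := H4DR.PCoh.subsingleton_HD_inD (ModuleCat.of A (A ⧸ Ideal.ofList (List.ofFn f))) i hi
    haveI : Subsingleton (Dual.HD A ((H4DR.FlatBC.FD S A).obj K) i) := (H4DR.PCoh.hEquiv i eA).injective.subsingleton
    haveI : Subsingleton (A ⊗[S] Dual.HD S K i) := (H4DR.FlatBC.hBC A i K).symm.injective.subsingleton
    exact exists_smul_eq_zero q _ A
  choose! tz htz htz' using hz
  let t₃ : S := ∏ i ∈ (Finset.Icc a c).erase 0, tz i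
  have ht₃ : t₃ ∉ q := fun h => by
    obtain ⟨i, hi, hi'⟩ := (Ideal.IsPrime.prod_mem_iff).mp h
    exact htz i (Finset.ne_of_mem_erase hi) hi'
  obtain ⟨h, t₄, ht₄, ht₄'⟩ := exists_bijective_baseChange q (Dual.HD S K 0) (S ⧸ J) A
    ((H4DR.FlatBC.hBC A 0 K).symm.trans ((H4DR.PCoh.hEquiv 0 eA).trans ((H4DR.DComplete.e0 (ModuleCat.of A (A ⧸ Ideal.ofList (List.ofFn f)))).trans
      ((Submodule.quotEquivOfEq _ _ hJA.symm).trans qA.symm))))
  -- the principal open
  refine ⟨s₀ * t₁ * t₂ * t₃ * t₄, ?_, fun φ => ?_⟩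
  · intro hm
    rcases Ideal.IsPrime.mem_or_mem ‹_› hm with hm | hm
    · rcases Ideal.IsPrime.mem_or_mem ‹_› hm with hm | hm
      · rcases Ideal.IsPrime.mem_or_mem ‹_› hm with hm | hm
        · exact (Ideal.IsPrime.mem_or_mem ‹_› hm).elim hs₀ ht₁
        · exact ht₂ hm
      · exact ht₃ hm
    · exact ht₄ hm
  let g := s₀ * t₁ * t₂ * t₃ * t₄
  let T := Localization.Away g
  haveI : IsLocalization.Away g T := inferInstance
  haveI : Module.Flat S T := IsLocalization.flat T (Submonoid.powers g)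
  have hdvd₀ : s₀ ∣ g := ((dvd_mul_right _ _).mul_right _).mul_right _ |>.mul_right _
  have hu : ∀ i, IsUnit (algebraMap S T ((bs i).2 : S)) := fun i => isUnit_of_dvd_unit
    (map_dvd _ ((Finset.dvd_prod_of_mem (fun i => ((bs i).2 : S)) (Finset.mem_univ i)).trans hdvd₀))
    (IsLocalization.Away.algebraMap_isUnit g)
  let f' : Fin n → T := fun i => algebraMap S T (b i) * ↑(hu i).unit⁻¹
  have hφ : ∀ i, φ (f' i) = f i := fun i => by
    refine (IsLocalization.map_units A (bs i).2).mul_right_cancel ?_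
    have h1 : f' i * algebraMap S T ((bs i).2 : S) = algebraMap S T (b i) := by
      show algebraMap S T (b i) * ↑(hu i).unit⁻¹ * _ = _
      rw [mul_assoc, IsUnit.val_inv_mul, mul_one]
    have h2 := congrArg φ h1
    rw [map_mul] at h2
    erw [φ.commutes, φ.commutes] at h2
    exact h2.trans (hbs i).symm
  have hJT : J.map (algebraMap S T) = Ideal.ofList (List.ofFn f') := by
    rw [Ideal.map_span, ← Set.range_comp]
    refine le_antisymm (Ideal.span_le.2 ?_) (Ideal.span_le.2 ?_)
    · rintro _ ⟨i, rfl⟩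
      have : algebraMap S T (b i) = f' i * algebraMap S T ((bs i).2 : S) := by
        rw [show f' i = algebraMap S T (b i) * ↑(hu i).unit⁻¹ from rfl, mul_assoc, IsUnit.val_inv_mul, mul_one]
      show algebraMap S T (b i) ∈ _
      rw [this]
      exact Ideal.mul_mem_right _ _ (Ideal.subset_span (List.mem_ofFn.2 ⟨i, rfl⟩))
    · intro x hx
      obtain ⟨i, rfl⟩ := List.mem_ofFn.1 hx
      exact Ideal.mul_mem_right _ _ (Ideal.subset_span ⟨i, rfl⟩)
  have hregT : IsRegular T (List.ofFn f') := by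
    refine ⟨isWeaklyRegular_ofFn_of_units _ _ (fun i => (hu i).unit⁻¹) (fun i => rfl)
      (ht₁' g (by exact (((dvd_mul_left _ _).mul_right _).mul_right _).mul_right _) T), fun htop => ?_⟩
    rw [smul_eq_mul, Ideal.mul_top] at htop
    have h1 : (1 : T) ∈ Ideal.ofList (List.ofFn f') := htop ▸ trivial
    have h2 := Ideal.mem_map_of_mem φ.toRingHom h1
    rw [map_one, Ideal.map_ofList] at h2
    refine (IsLocalRing.maximalIdeal.isMaximal A).ne_top ((Ideal.eq_top_iff_one _).2 ?_)
    refine (Ideal.span_le.2 (fun x hx => ?_)) h2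
    obtain ⟨y, hy, rfl⟩ := List.mem_map.1 hx
    obtain ⟨i, rfl⟩ := List.mem_ofFn.1 hy
    show φ (f' i) ∈ _
    rw [hφ i]
    exact hfs _ (List.mem_ofFn.2 ⟨i, rfl⟩)
  let qT : (T ⊗[S] (S ⧸ J)) ≃ₗ[T] T ⧸ Ideal.ofList (List.ofFn f') :=
    (Algebra.TensorProduct.quotIdealMapEquivTensorQuot T J).symm.toLinearEquiv.trans
      (Submodule.quotEquivOfEq _ _ hJT)
  refine ⟨List.ofFn f', ?_, hregT, ?_, fun {_} => ?_⟩
  · rw [List.map_ofFn]
    exact congrArg List.ofFn (funext hφ)
  · haveI : IsLocalizedModule (Submonoid.powers g) (TensorProduct.mk S T (S ⧸ J) 1) :=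
      (isLocalizedModule_iff_isBaseChange (Submonoid.powers g) T _).2 (TensorProduct.isBaseChange S (S ⧸ J) T)
    haveI := ht₂' g (by exact ((dvd_mul_left _ _).mul_right _).mul_right _)
    exact Module.Flat.of_linearEquiv
      (((IsLocalizedModule.iso (Submonoid.powers g) (TensorProduct.mk S T (S ⧸ J) 1)).restrictScalars R).trans
        (qT.restrictScalars R)).symm
  · let L := (H4DR.FlatBC.FD S T).obj K
    have hL : ∀ i, i ≠ 0 → Subsingleton (Dual.HD T L i) := fun i hi => by
      haveI : Subsingleton (T ⊗[S] Dual.HD S K i) := by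
        by_cases hin : i ∈ Finset.Icc a c
        · exact subsingleton_tensor (g := g)
            ((Finset.dvd_prod_of_mem tz (Finset.mem_erase.2 ⟨hi, hin⟩)).trans
              ((dvd_mul_left _ _).mul_right _)) (htz' i hi) T
        · haveI := hout i (by rw [Finset.mem_Icc] at hin; omega)
          exact subsingleton_tensor (one_dvd g) (fun m => Subsingleton.elim _ _) T
      exact (H4DR.FlatBC.hBC T i K).injective.subsingleton
    haveI : L.IsGE 0 := (DerivedCategory.isGE_iff _ _).2 fun i hi =>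
      haveI := hL i hi.ne
      ModuleCat.isZero_of_subsingleton _
    haveI : L.IsLE 0 := (DerivedCategory.isLE_iff _ _).2 fun i hi =>
      haveI := hL i hi.ne'
      ModuleCat.isZero_of_subsingleton _
    obtain ⟨M, ⟨i₁⟩⟩ := L.exists_iso_singleFunctor_obj_of_isGE_of_isLE 0
    let lM : M ≃ₗ[T] T ⧸ Ideal.ofList (List.ofFn f') :=
      (H4DR.DComplete.e0 M).symm.trans ((H4DR.PCoh.hEquiv 0 i₁.symm).trans ((H4DR.FlatBC.hBC T 0 K).trans
        ((LinearEquiv.ofBijective (h.baseChange T) (ht₄' g (dvd_mul_left _ _) T)).trans qT)))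
    obtain ⟨eqT⟩ := H27KZero.Local.koszul_iso (List.ofFn f') hregT
    exact ⟨H4DR.FlatBC.lbaseIso K ≪≫ i₁ ≪≫
      (DerivedCategory.singleFunctor (ModuleCat.{u} T) 0).mapIso lM.toModuleIso ≪≫ eqT.symm⟩

end Groth.Agent.H02CA.KoszSpread
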